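/-
The arithmetic of the largest nilpotent subgroups of symmetric and alternating groups.
Main results (namespace `Cfsg.Agent.NilPerm`): `gg_add`, `ff_le`, `two_ff_le`, `two_ff_lt`, `gA_add`, `gA_add_lt`.
-/
import Cfsg.Agent.EqLemmas

set_option autoImplicit false
set_option linter.unusedSectionVars false

namespace Cfsg.Agent.NilPerm

open Nat

/-- The exponent of 2 in `n!`. -/
def ee (n : ℕ) : ℕ := padicValNat 2 n.factorial

/-- The largest order of a nilpotent subgroup of the symmetric group of degree `n`. -/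
def gg (n : ℕ) : ℕ := if n % 4 = 3 then 3 * 2 ^ ee (n - 3) else 2 ^ ee n

/-- The coefficient of the residue. -/
def cc (r : ℕ) : ℕ := if r = 3 then 3 else if r = 2 then 2 else 1

/-- Twice the largest order of a nilpotent subgroup of the alternating group of degree `n`. -/
def gA (n : ℕ) : ℕ :=
  if n = 0 ∨ n = 1 then 2 else if n = 3 then 6 else if n = 5 then 10 else if n = 6 then 18 else
    if n = 9 then 162 else gg n

/-- The bound for transitive groups. -/
def ff (n : ℕ) : ℕ := n.factorization.prod fun p a => p ^ padicValNat p (p ^ a).factorial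

theorem ee_two_mul (k : ℕ) : ee (2 * k) = ee k + k := by
  rw [ee, ee, padicValNat_factorial_mul]

theorem ee_two_mul_succ (k : ℕ) : ee (2 * k + 1) = ee k + k := by
  rw [ee, ee, padicValNat_factorial_mul_add (p := 2) k (by norm_num), padicValNat_factorial_mul]

theorem ee_zero : ee 0 = 0 := by simp [ee]
theorem ee_one : ee 1 = 0 := by simp [ee]
theorem ee_two : ee 2 = 1 := by rw [show 2 = 2 * 1 from rfl, ee_two_mul, ee_one]
theorem ee_three : ee 3 = 1 := by rw [show 3 = 2 * 1 + 1 from rfl, ee_two_mul_succ, ee_one]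
theorem ee_four : ee 4 = 3 := by rw [show 4 = 2 * 2 from rfl, ee_two_mul, ee_two]

theorem ee_four_mul (k : ℕ) : ee (4 * k) = ee k + 3 * k := by
  rw [show 4 * k = 2 * (2 * k) by ring, ee_two_mul, ee_two_mul]; omega

theorem ee_add (a b : ℕ) : ee a + ee b ≤ ee (a + b) := by
  rw [ee, ee, ee, ← padicValNat.mul (factorial_ne_zero _) (factorial_ne_zero _)]
  have hd := factorial_mul_factorial_dvd_factorial_add a b
  rw [← Nat.factorization_def _ Nat.prime_two, ← Nat.factorization_def _ Nat.prime_two]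
  exact (Nat.factorization_le_iff_dvd (mul_ne_zero (factorial_ne_zero _) (factorial_ne_zero _))
    (factorial_ne_zero _)).2 hd 2

theorem gg_form (k r : ℕ) (hr : r < 4) : gg (4 * k + r) = cc r * 2 ^ (ee k + 3 * k) := by
  interval_cases r
  · rw [gg, if_neg (by omega), add_zero, ee_four_mul]; simp [cc]
  · rw [gg, if_neg (by omega), show 4 * k + 1 = 2 * (2 * k) + 1 by ring, ee_two_mul_succ, ee_two_mul]
    simp [cc]; omega
  · rw [gg, if_neg (by omega), show 4 * k + 2 = 2 * (2 * k + 1) by ring, ee_two_mul, ee_two_mul_succ]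
    rw [show ee k + k + (2 * k + 1) = ee k + 3 * k + 1 by omega]
    simp [cc, pow_succ']
  · rw [gg, if_pos (by omega), show 4 * k + 3 - 3 = 4 * k by omega, ee_four_mul]; simp [cc]

theorem gg_eval (n : ℕ) : gg n = cc (n % 4) * 2 ^ (ee (n / 4) + 3 * (n / 4)) := by
  conv_lhs => rw [← Nat.div_add_mod n 4]
  exact gg_form _ _ (Nat.mod_lt _ (by norm_num))

theorem gg_pos (n : ℕ) : 0 < gg n := by
  rw [gg]; split_ifs <;> positivity

theorem two_pow_ee_le (n : ℕ) : 2 ^ ee n ≤ gg n := by
  rw [gg]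
  split_ifs with h
  · obtain ⟨k, rfl⟩ : ∃ k, n = 4 * k + 3 := ⟨n / 4, by omega⟩
    rw [show 4 * k + 3 - 3 = 4 * k by omega, show 4 * k + 3 = 2 * (2 * k + 1) + 1 by ring, ee_two_mul_succ,
      ee_two_mul_succ, ee_four_mul, show ee k + k + (2 * k + 1) = ee k + 3 * k + 1 by omega, pow_succ']
    have := Nat.two_pow_pos (ee k + 3 * k)
    omega
  · exact le_rfl

theorem gg_add_aux (a b : ℕ) : gg a * gg b ≤ gg (a + b) ∧
    ((a + b) % 4 = 3 → a % 4 ≠ 3 → b % 4 ≠ 3 → gg a * gg b < gg (a + b)) := by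
  obtain ⟨k, r, hr, rfl⟩ : ∃ k r, r < 4 ∧ a = 4 * k + r := ⟨a / 4, a % 4, by omega, by omega⟩
  obtain ⟨l, s, hs, rfl⟩ : ∃ l s, s < 4 ∧ b = 4 * l + s := ⟨b / 4, b % 4, by omega, by omega⟩
  rw [gg_form k r hr, gg_form l s hs]
  set E := 2 ^ (ee (k + l) + 3 * (k + l)) with hE
  have hP : 2 ^ (ee k + 3 * k) * 2 ^ (ee l + 3 * l) ≤ E := by
    rw [hE, ← pow_add]
    exact Nat.pow_le_pow_right (by norm_num) (by have := ee_add k l; omega)
  have hprod : cc r * 2 ^ (ee k + 3 * k) * (cc s * 2 ^ (ee l + 3 * l)) ≤ cc r * cc s * E := by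
    rw [mul_mul_mul_comm]; exact Nat.mul_le_mul_left _ hP
  have hEpos : 0 < E := by positivity
  by_cases h : r + s < 4
  · rw [show 4 * k + r + (4 * l + s) = 4 * (k + l) + (r + s) by ring, gg_form _ _ h, ← hE]
    constructor
    · refine hprod.trans (Nat.mul_le_mul_right _ ?_)
      interval_cases r <;> interval_cases s <;> simp_all [cc]
    · intro h1 h2 h3
      refine lt_of_le_of_lt hprod ((Nat.mul_lt_mul_right hEpos).2 ?_)
      interval_cases r <;> interval_cases s <;> simp [cc] <;> omega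
  · rw [show 4 * k + r + (4 * l + s) = 4 * (k + l + 1) + (r + s - 4) by omega, gg_form _ _ (by omega)]
    have hup : 8 * E ≤ 2 ^ (ee (k + l + 1) + 3 * (k + l + 1)) := by
      rw [hE, show 8 = 2 ^ 3 by norm_num, ← pow_add]
      exact Nat.pow_le_pow_right (by norm_num) (by have := ee_add (k + l) 1; omega)
    constructor
    · refine hprod.trans ?_
      calc cc r * cc s * E ≤ cc (r + s - 4) * 8 * E := by
            refine Nat.mul_le_mul_right _ ?_
            interval_cases r <;> interval_cases s <;> simp_all [cc]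
        _ = cc (r + s - 4) * (8 * E) := mul_assoc _ _ _
        _ ≤ _ := Nat.mul_le_mul_left _ hup
    · intro h1 h2 h3
      omega

theorem gg_add (a b : ℕ) : gg a * gg b ≤ gg (a + b) := (gg_add_aux a b).1

theorem gg_add_lt {a b : ℕ} (h : (a + b) % 4 = 3) (ha : a % 4 ≠ 3) (hb : b % 4 ≠ 3) :
    gg a * gg b < gg (a + b) := (gg_add_aux a b).2 h ha hb

theorem gg_zero : gg 0 = 1 := by simp [gg_eval, cc, ee_zero]
theorem gg_one : gg 1 = 1 := by simp [gg_eval, cc, ee_zero]
theorem gg_two : gg 2 = 2 := by simp [gg_eval, cc, ee_zero]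
theorem gg_three : gg 3 = 3 := by simp [gg_eval, cc, ee_zero]

theorem gg_mono {a b : ℕ} (h : a ≤ b) : gg a ≤ gg b := by
  induction h with
  | refl => exact le_rfl
  | @step m h ih =>
    refine ih.trans ?_
    have := gg_add m 1
    rw [gg_one, mul_one] at this
    exact this

theorem gg_pred_lt {n : ℕ} (h : n % 4 = 3) : gg (n - 1) < gg n := by
  have := gg_add_lt (a := n - 1) (b := 1) (by omega) (by omega) (by omega)
  rwa [gg_one, mul_one, show n - 1 + 1 = n by omega] at this

theorem gg_eight : gg 8 = 128 := by simp [gg_eval, cc, ee_two]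

theorem three_pow_le (k : ℕ) (h2 : k ≠ 2) (h3 : k ≠ 3) : 3 ^ k ≤ gg (2 * k + 1) := by
  induction k using Nat.strong_induction_on with
  | _ k ih =>
    by_cases hk : k < 8
    · interval_cases k <;> simp_all [gg_eval, cc, ee_zero, ee_one, ee_two, ee_three]
    · obtain ⟨j, rfl⟩ : ∃ j, k = j + 4 := ⟨k - 4, by omega⟩
      have h1 := ih j (by omega) (by omega) (by omega)
      have h8 := gg_add (2 * j + 1) 8
      rw [gg_eight, show 2 * j + 1 + 8 = 2 * (j + 4) + 1 by omega] at h8
      rw [pow_add]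
      omega

theorem two_three_pow_lt (k : ℕ) (h : 8 ≤ k) : 2 * 3 ^ k < gg (2 * k + 1) := by
  induction k using Nat.strong_induction_on with
  | _ k ih =>
    by_cases hk : k < 12
    · interval_cases k <;> simp_all [gg_eval, cc, ee_zero, ee_one, ee_two, ee_three, ee_four,
        show ee 5 = 3 by rw [show 5 = 2 * 2 + 1 from rfl, ee_two_mul_succ, ee_two]]
    · obtain ⟨j, rfl⟩ : ∃ j, k = j + 4 := ⟨k - 4, by omega⟩
      have h1 := ih j (by omega) (by omega)
      have h8 := gg_add (2 * j + 1) 8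
      rw [gg_eight, show 2 * j + 1 + 8 = 2 * (j + 4) + 1 by omega] at h8
      rw [pow_add]
      omega

theorem ff_zero : ff 0 = 1 := by simp [ff]
theorem ff_one : ff 1 = 1 := by simp [ff]

theorem ff_mul {a b : ℕ} (h : a.Coprime b) : ff (a * b) = ff a * ff b := by
  rw [ff, Nat.factorization_mul_of_coprime h]
  exact Finsupp.prod_add_index_of_disjoint (by simpa using h.disjoint_primeFactors) _

theorem ff_prime_pow {p a : ℕ} (hp : p.Prime) : ff (p ^ a) = p ^ padicValNat p (p ^ a).factorial := by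
  rw [ff, hp.factorization_pow, Finsupp.prod_single_index]
  simp

theorem val_factorial_pow (p : ℕ) [Fact p.Prime] (a : ℕ) :
    (p - 1) * padicValNat p (p ^ a).factorial + 1 = p ^ a := by
  induction a with
  | zero => simp
  | succ a ih =>
    have h1 := (Fact.out : p.Prime).one_lt
    obtain ⟨q, rfl⟩ : ∃ q, p = q + 1 := ⟨p - 1, by omega⟩
    rw [Nat.add_sub_cancel] at ih ⊢
    rw [pow_succ', padicValNat_factorial_mul, mul_add]
    rw [show (q + 1) * (q + 1) ^ a = q * (q + 1) ^ a + (q + 1) ^ a by ring]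
    omega

theorem sq_le_three_pow {p : ℕ} (hp : 3 ≤ p) : p ^ 2 ≤ 3 ^ (p - 1) := by
  induction p, hp using Nat.le_induction with
  | base => norm_num
  | succ n hn ih =>
    rw [show n + 1 - 1 = (n - 1) + 1 by omega, pow_succ 3]
    nlinarith

/-- Odd prime powers. -/
theorem ff_odd_prime_pow {p a : ℕ} (hp : p.Prime) (hp3 : 3 ≤ p) :
    ff (p ^ a) ≤ 3 ^ ((p ^ a - 1) / 2) := by
  haveI := Fact.mk hp
  rw [ff_prime_pow hp]
  set S := padicValNat p (p ^ a).factorial
  have hS : (p - 1) * S = p ^ a - 1 := by conv_rhs => rw [← val_factorial_pow p a, Nat.add_sub_cancel]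
  have hev : Even (p ^ a - 1) := by
    rw [← hS]
    exact (hp.even_sub_one (by omega)).mul_right _
  obtain ⟨k, hk⟩ := hev
  rw [show (p ^ a - 1) / 2 = k by omega]
  have h : (p ^ S) ^ 2 ≤ (3 ^ k) ^ 2 := by
    calc (p ^ S) ^ 2 = (p ^ 2) ^ S := by rw [← pow_mul, ← pow_mul, mul_comm]
      _ ≤ (3 ^ (p - 1)) ^ S := Nat.pow_le_pow_left (sq_le_three_pow hp3) _
      _ = (3 ^ k) ^ 2 := by rw [← pow_mul, ← pow_mul, hS, hk]; congr 1; omega
  exact (Nat.pow_le_pow_iff_left two_ne_zero).1 h

/-- Odd prime powers up to 15. -/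
theorem small_prime_pow {p a : ℕ} (hp : p.Prime) (hp3 : 3 ≤ p) (ha : 0 < a) (h : p ^ a < 17) :
    (a = 1 ∧ ff (p ^ a) = p) ∨ (p ^ a = 9 ∧ ff (p ^ a) ≤ 81) := by
  rcases (show a = 1 ∨ 2 ≤ a by omega) with rfl | ha2
  · left
    haveI := Fact.mk hp
    refine ⟨rfl, ?_⟩
    have := val_factorial_pow p 1
    rw [pow_one] at this ⊢
    conv_lhs => rw [← pow_one p, ff_prime_pow hp, pow_one]
    have hS : padicValNat p p.factorial = 1 := by
      obtain ⟨q, rfl⟩ : ∃ q, p = q + 1 := ⟨p - 1, by omega⟩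
      rw [Nat.add_sub_cancel] at this
      have : q * padicValNat (q + 1) (q + 1).factorial = q * 1 := by omega
      exact Nat.eq_of_mul_eq_mul_left (by omega) this
    rw [hS, pow_one]
  · right
    have h1 : p ^ 2 ≤ p ^ a := Nat.pow_le_pow_right (by omega) ha2
    have hp4 : p < 5 := by nlinarith
    have hp3' : p = 3 := by interval_cases p <;> first | rfl | (norm_num at hp)
    subst hp3'
    have : a < 3 := by
      by_contra hc
      have : 3 ^ 3 ≤ 3 ^ a := Nat.pow_le_pow_right (by norm_num) (by omega)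
      omega
    obtain rfl : a = 2 := by omega
    exact ⟨rfl, (ff_odd_prime_pow hp hp3).trans (by norm_num)⟩

theorem odd_prime_pow_le {p a : ℕ} (hp : p.Prime) (hp3 : 3 ≤ p) (ha : 0 < a) :
    ff (p ^ a) ≤ gg (p ^ a) := by
  have hodd : p ^ a % 2 = 1 := Nat.odd_iff.1 ((hp.odd_of_ne_two (by omega)).pow)
  rcases Nat.lt_or_ge (p ^ a) 17 with h | h
  · rcases small_prime_pow hp hp3 ha h with ⟨rfl, e⟩ | ⟨e9, e⟩
    · rw [e, pow_one] at *
      interval_cases p <;> simp_all [gg_eval, cc, ee_zero, ee_one, ee_two, ee_three, ee_four]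
    · rw [e9] at e ⊢
      exact e.trans (by simp [gg_eval, cc, ee_two])
  · refine (ff_odd_prime_pow hp hp3).trans ?_
    have := three_pow_le ((p ^ a - 1) / 2) (by omega) (by omega)
    rwa [show 2 * ((p ^ a - 1) / 2) + 1 = p ^ a by omega] at this

theorem odd_prime_pow_lt {p a : ℕ} (hp : p.Prime) (hp3 : 3 ≤ p) (ha : 0 < a)
    (h3 : p ^ a ≠ 3) (h5 : p ^ a ≠ 5) (h9 : p ^ a ≠ 9) : 2 * ff (p ^ a) < gg (p ^ a) := by
  have hodd : p ^ a % 2 = 1 := Nat.odd_iff.1 ((hp.odd_of_ne_two (by omega)).pow)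
  rcases Nat.lt_or_ge (p ^ a) 17 with h | h
  · rcases small_prime_pow hp hp3 ha h with ⟨rfl, e⟩ | ⟨e9, -⟩
    · rw [e, pow_one] at *
      interval_cases p <;> simp_all [gg_eval, cc, ee_zero, ee_one, ee_two, ee_three, ee_four]
    · exact absurd e9 h9
  · refine lt_of_le_of_lt (Nat.mul_le_mul_left 2 (ff_odd_prime_pow hp hp3)) ?_
    have := two_three_pow_lt ((p ^ a - 1) / 2) (by omega)
    rwa [show 2 * ((p ^ a - 1) / 2) + 1 = p ^ a by omega] at this

/-- The transitive bound is at most the general bound. -/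
theorem ff_le (n : ℕ) : ff n ≤ gg n := by
  induction n using Nat.recOnPosPrimePosCoprime with
  | prime_pow p a hp ha =>
    rcases (show p = 2 ∨ 3 ≤ p by have := hp.two_le; omega) with rfl | hp3
    · rw [ff_prime_pow hp]; exact two_pow_ee_le _
    · exact odd_prime_pow_le hp hp3 ha
  | zero => simp [ff_zero, gg_zero]
  | one => simp [ff_one, gg_one]
  | coprime a b ha hb hab iha ihb =>
    rw [ff_mul hab]
    exact (Nat.mul_le_mul iha ihb).trans ((gg_add a b).trans (gg_mono (by nlinarith)))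

/-- Away from powers of two the transitive bound is at most half of the general one. -/
theorem two_ff_le (n : ℕ) : (∀ a, n ≠ 2 ^ a) → n ≠ 0 → n ≠ 3 → n ≠ 5 → n ≠ 9 →
    2 * ff n ≤ gA n ∧ (n % 4 = 3 → 2 * ff n < gg n) := by
  have gle : ∀ m, gg m ≤ gA m := fun m => by
    unfold gA
    split_ifs with h1 h3 h5 h6 h9
    · rcases h1 with rfl | rfl <;> simp [gg_zero, gg_one]
    all_goals first
      | exact le_rfl
      | (subst_vars; simp [gg_eval, cc, ee_zero, ee_one, ee_two])
  induction n using Nat.recOnPosPrimePosCoprime with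
  | prime_pow p a hp ha =>
    intro h2 _ h3 h5 h9
    rcases (show p = 2 ∨ 3 ≤ p by have := hp.two_le; omega) with rfl | hp3
    · exact absurd rfl (h2 a)
    · have h := odd_prime_pow_lt hp hp3 ha h3 h5 h9
      exact ⟨h.le.trans (gle _), fun _ => h⟩
  | zero => intro _ h; exact absurd rfl h
  | one => intro h; exact absurd rfl (h 0)
  | coprime a b ha hb hab _ _ =>
    intro _ _ _ _ _
    rw [ff_mul hab]
    have h1 : ff a * ff b ≤ gg (a + b) := (Nat.mul_le_mul (ff_le a) (ff_le b)).trans (gg_add a b)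
    have h2 : 2 * gg (a + b) ≤ gg (a + b + 2) := by
      have := gg_add (a + b) 2; rw [gg_two] at this; omega
    have hne : ¬ (a = 2 ∧ b = 2) := by rintro ⟨rfl, rfl⟩; exact absurd hab (by norm_num)
    by_cases h6 : a * b = 6
    · refine ⟨?_, fun h => by omega⟩
      rw [h6, gA]
      norm_num
      have : ff a * ff b ≤ gg a * gg b := Nat.mul_le_mul (ff_le a) (ff_le b)
      have : a ≤ 3 := by nlinarith
      have : b ≤ 3 := by nlinarith
      interval_cases a <;> interval_cases b <;> simp_all [gg_two, gg_three] <;> omega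
    · have hge : a + b + 2 ≤ a * b := by
        rcases (show a = 2 ∨ 3 ≤ a by omega) with rfl | ha3
        · have : b ≠ 4 := by rintro rfl; exact absurd hab (by norm_num)
          omega
        · rcases (show b = 2 ∨ 3 ≤ b by omega) with rfl | hb3
          · have : a ≠ 4 := by rintro rfl; exact absurd hab (by norm_num)
            omega
          · have : ¬ (a = 3 ∧ b = 3) := by rintro ⟨rfl, rfl⟩; exact absurd hab (by norm_num)
            have := Nat.mul_le_mul ha3 hb3
            nlinarith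
      refine ⟨?_, fun h4 => ?_⟩
      · have := (gg_mono hge).trans (gle _); omega
      · have hlt : a + b + 2 ≤ a * b - 1 := by
          rcases (show a + b + 2 = a * b ∨ a + b + 2 < a * b by omega) with e | e
          · rcases (show a = 2 ∨ b = 2 ∨ (3 ≤ a ∧ 3 ≤ b) by omega) with rfl | rfl | ⟨h3a, h3b⟩
            · omega
            · omega
            · have : 3 * b ≤ a * b := Nat.mul_le_mul_right b h3a
              have : a * 3 ≤ a * b := Nat.mul_le_mul_left a h3b
              have : a ≤ 5 := by omega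
              have : b ≤ 5 := by omega
              interval_cases a <;> interval_cases b <;> omega
          · omega
        have := gg_mono hlt
        have := gg_pred_lt h4
        omega

theorem gg_le_gA (n : ℕ) : gg n ≤ gA n := by
  unfold gA
  split_ifs with h1 h3 h5 h6 h9
  · rcases h1 with rfl | rfl <;> simp [gg_zero, gg_one]
  all_goals first
    | exact le_rfl
    | (subst_vars; simp [gg_eval, cc, ee_zero, ee_one, ee_two])

theorem gA_le (n : ℕ) : gA n ≤ 2 * gg n := by
  unfold gA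
  split_ifs with h1 h3 h5 h6 h9
  · rcases h1 with rfl | rfl <;> simp [gg_zero, gg_one]
  all_goals first
    | omega
    | (subst_vars; simp [gg_eval, cc, ee_zero, ee_one, ee_two])

theorem gA_of_not_exc {n : ℕ} (h : n ≠ 0 ∧ n ≠ 1 ∧ n ≠ 3 ∧ n ≠ 5 ∧ n ≠ 6 ∧ n ≠ 9) : gA n = gg n := by
  obtain ⟨h0, h1, h3, h5, h6, h9⟩ := h
  rw [gA, if_neg (by omega), if_neg h3, if_neg h5, if_neg h6, if_neg h9]

theorem gA_add {a b : ℕ} (ha : 0 < a) (hb : 0 < b) : gA a * gA b ≤ 2 * gA (a + b) := by
  by_cases hae : a = 1 ∨ a = 3 ∨ a = 5 ∨ a = 6 ∨ a = 9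
  · by_cases hbe : b = 1 ∨ b = 3 ∨ b = 5 ∨ b = 6 ∨ b = 9
    · rcases hae with rfl | rfl | rfl | rfl | rfl <;> rcases hbe with rfl | rfl | rfl | rfl | rfl <;>
        simp [gA, gg_eval, cc, ee_zero, ee_one, ee_two, ee_three, ee_four]
    · rw [gA_of_not_exc (n := b) (by omega)]
      calc gA a * gg b ≤ 2 * gg a * gg b := Nat.mul_le_mul_right _ (gA_le a)
        _ = 2 * (gg a * gg b) := mul_assoc _ _ _
        _ ≤ 2 * gA (a + b) := Nat.mul_le_mul_left _ ((gg_add a b).trans (gg_le_gA _))
  · rw [gA_of_not_exc (n := a) (by omega)]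
    calc gg a * gA b ≤ gg a * (2 * gg b) := Nat.mul_le_mul_left _ (gA_le b)
      _ = 2 * (gg a * gg b) := by ring
      _ ≤ 2 * gA (a + b) := Nat.mul_le_mul_left _ ((gg_add a b).trans (gg_le_gA _))

theorem gA_add_lt {a b : ℕ} (ha : 0 < a) (hb : 0 < b) (h : (a + b) % 4 = 3) (ha3 : a ≠ 3) (hb3 : b ≠ 3) :
    gA a * gA b < 2 * gg (a + b) := by
  have key : ∀ x y, (x + y) % 4 = 3 → (x = 1 ∨ x = 5 ∨ x = 6 ∨ x = 9) →
      ¬ (y = 0 ∨ y = 1 ∨ y = 3 ∨ y = 5 ∨ y = 6 ∨ y = 9) → gA x * gg y < 2 * gg (x + y) := by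
    intro x y hxy hx hy
    rcases hx with rfl | hx
    · have := gg_add_lt hxy (by omega) (by omega)
      rw [gg_one, one_mul] at this
      simp [gA]
      omega
    · have h1 : gA x < 2 * gg x := by
        rcases hx with rfl | rfl | rfl <;> simp [gA, gg_eval, cc, ee_zero, ee_one, ee_two]
      calc gA x * gg y < 2 * gg x * gg y := Nat.mul_lt_mul_of_pos_right h1 (gg_pos y)
        _ = 2 * (gg x * gg y) := mul_assoc _ _ _
        _ ≤ _ := Nat.mul_le_mul_left _ (gg_add x y)
  by_cases hae : a = 1 ∨ a = 5 ∨ a = 6 ∨ a = 9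
  · by_cases hbe : b = 1 ∨ b = 5 ∨ b = 6 ∨ b = 9
    · rcases hae with rfl | rfl | rfl | rfl <;> rcases hbe with rfl | rfl | rfl | rfl <;>
        first
          | (norm_num at h; done)
          | simp [gA, gg_eval, cc, ee_zero, ee_one, ee_two, ee_three, ee_four]
    · rw [gA_of_not_exc (n := b) (by omega)]
      exact key a b h hae (by omega)
  · by_cases hbe : b = 1 ∨ b = 5 ∨ b = 6 ∨ b = 9
    · rw [gA_of_not_exc (n := a) (by omega), mul_comm, add_comm]
      exact key b a (by omega) hbe (by omega)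
    · rw [gA_of_not_exc (n := a) (by omega), gA_of_not_exc (n := b) (by omega)]
      have := gg_add a b
      have := gg_pos (a + b)
      omega

end Cfsg.Agent.NilPerm
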