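/-
Nilpotent groups of permutations: the bound for transitive groups and the decomposition at an invariant set.
Main results (namespace `Cfsg.Agent.NilPerm`): `card_le_ff`, `emb`, `exists_emb`, `exists_factors`.
-/
import Cfsg.Agent.Lib.NilPerm.Arith
import Cfsg.Agent.Lib.NilGroup.Basic

set_option autoImplicit false
set_option linter.unusedSectionVars false

namespace Cfsg.Agent.NilPerm

open Equiv MulAction

/-- The exponent of `p` in a transitive nilpotent group is at most that of a `p`-group of the `p`-part. -/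
theorem factorization_le {G X : Type*} [Group G] [Finite G] [Finite X] [Nonempty X] [MulAction G X]
    [FaithfulSMul G X] [IsPretransitive G X] (hG : Group.IsNilpotent G) (p : ℕ) [hp : Fact p.Prime] :
    (Nat.card G).factorization p ≤ padicValNat p (p ^ (Nat.card X).factorization p).factorial := by
  classical
  haveI := hG
  obtain ⟨P⟩ := (inferInstance : Nonempty (Sylow p G))
  set C := Subgroup.centralizer ((P : Subgroup G) : Set G)
  have htop : (P : Subgroup G) ⊔ C = ⊤ := by
    apply Subgroup.eq_top_of_card_eq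
    refine Nat.dvd_antisymm (Subgroup.card_subgroup_dvd_card _) ?_
    refine (Nat.factorization_le_iff_dvd Nat.card_pos.ne' Nat.card_pos.ne').1 fun q => ?_
    by_cases hq : q.Prime
    · haveI := Fact.mk hq
      obtain ⟨Q⟩ := (inferInstance : Nonempty (Sylow q G))
      have hle : (Q : Subgroup G) ≤ (P : Subgroup G) ⊔ C := by
        by_cases hqp : q = p
        · subst hqp
          haveI := Sylow.unique_of_normal P inferInstance
          exact (Subsingleton.elim P Q) ▸ le_sup_left
        · refine le_trans (fun y hy => Subgroup.mem_centralizer_iff.2 fun x hx => ?_) le_sup_right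
          obtain ⟨i, hi⟩ := IsPGroup.iff_orderOf.1 P.isPGroup' ⟨x, hx⟩
          obtain ⟨j, hj⟩ := IsPGroup.iff_orderOf.1 Q.isPGroup' ⟨y, hy⟩
          rw [Subgroup.orderOf_mk] at hi hj
          refine (NilGroup.commute_of_coprime hG ?_).eq
          rw [hi, hj]
          exact Nat.Coprime.pow _ _ ((Nat.coprime_primes hp.out hq).2 (Ne.symm hqp))
      have h1 := (Nat.factorization_le_iff_dvd Nat.card_pos.ne' Nat.card_pos.ne').2
        (Subgroup.card_dvd_of_le hle) q
      rwa [Q.card_eq_multiplicity, hq.factorization_pow, Finsupp.single_eq_same] at h1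
    · simp [Nat.factorization_eq_zero_of_not_prime _ hq]
  obtain ⟨x⟩ := (inferInstance : Nonempty X)
  obtain ⟨b, hb⟩ := P.isPGroup'.card_orbit x
  have hba : b ≤ (Nat.card X).factorization p := by
    have hdvd : (orbit P x).ncard ∣ Nat.card X :=
      (IsBlock.orbit_of_normal (N := (P : Subgroup G)) (G := G) x).ncard_dvd_card (nonempty_orbit x)
    rw [← Nat.card_coe_set_eq, hb] at hdvd
    exact (hp.out.pow_dvd_iff_le_factorization Nat.card_pos.ne').1 hdvd
  have hinj : Function.Injective (toPermHom P (orbit P x)) := by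
    rw [injective_iff_map_eq_one]
    intro k hk
    apply Subtype.ext
    refine eq_of_smul_eq_smul (α := X) fun y => ?_
    obtain ⟨g, rfl⟩ := exists_smul_eq G x y
    have hg : g ∈ ((P : Subgroup G) ⊔ C : Subgroup G) := htop ▸ Subgroup.mem_top g
    obtain ⟨u, hu, c, hc, rfl⟩ := Subgroup.mem_sup_of_normal_left.1 hg
    have hk' : (k : G) • (u • x) = u • x :=
      congrArg Subtype.val (Equiv.congr_fun hk ⟨u • x, ⟨⟨u, hu⟩, rfl⟩⟩)
    have hcu : u * c = c * u := Subgroup.mem_centralizer_iff.1 hc u hu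
    have hck : (k : G) * c = c * k := Subgroup.mem_centralizer_iff.1 hc k k.2
    rw [show ((1 : P) : G) = 1 from rfl, one_smul, hcu, mul_smul, smul_smul, hck, mul_smul, hk']
  have hdvd : Nat.card P ∣ (p ^ (Nat.card X).factorization p).factorial := by
    have h1 := Subgroup.card_dvd_of_injective _ hinj
    rw [Nat.card_perm, hb] at h1
    exact h1.trans (Nat.factorial_dvd_factorial (Nat.pow_le_pow_right hp.out.pos hba))
  rw [P.card_eq_multiplicity] at hdvd
  rw [← Nat.factorization_def _ hp.out]
  exact (hp.out.pow_dvd_iff_le_factorization (Nat.factorial_ne_zero _)).1 hdvd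

/-- A transitive nilpotent group has order at most `ff` of its degree. -/
theorem card_le_ff {α : Type*} [Finite α] [Nonempty α] (N : Subgroup (Perm α)) (hN : Group.IsNilpotent N)
    (htr : ∀ x y : α, ∃ g ∈ N, g x = y) : Nat.card N ≤ ff (Nat.card α) := by
  haveI : IsPretransitive N α := ⟨fun x y => by obtain ⟨g, hg, h⟩ := htr x y; exact ⟨⟨g, hg⟩, h⟩⟩
  set n := Nat.card α
  have key : ∀ p ∈ (Nat.card N).primeFactors,
      (Nat.card N).factorization p ≤ padicValNat p (p ^ n.factorization p).factorial := fun p hp => by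
    haveI := Fact.mk (Nat.prime_of_mem_primeFactors hp)
    exact factorization_le (G := N) (X := α) hN p
  have hsub : (Nat.card N).primeFactors ⊆ n.primeFactors := by
    intro p hp
    by_contra hc
    have h1 := key p hp
    rw [← Nat.support_factorization, Finsupp.notMem_support_iff] at hc
    rw [hc, pow_zero, Nat.factorial_one, padicValNat_one_right] at h1
    rw [← Nat.support_factorization, Finsupp.mem_support_iff] at hp
    omega
  calc Nat.card N = ∏ p ∈ (Nat.card N).primeFactors, p ^ (Nat.card N).factorization p := by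
        conv_lhs => rw [← Nat.prod_factorization_pow_eq_self (Nat.card_pos (α := N)).ne']
        rfl
    _ ≤ ∏ p ∈ (Nat.card N).primeFactors, p ^ padicValNat p (p ^ n.factorization p).factorial :=
        Finset.prod_le_prod' fun p hp => Nat.pow_le_pow_right (Nat.pos_of_mem_primeFactors hp) (key p hp)
    _ ≤ ∏ p ∈ n.primeFactors, p ^ padicValNat p (p ^ n.factorization p).factorial :=
        Finset.prod_le_prod_of_subset_of_one_le' hsub fun p hp _ =>
          Nat.one_le_pow _ _ (Nat.pos_of_mem_primeFactors hp)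
    _ = ff n := rfl

section Emb

variable {α β γ : Type*}

/-- Pairs of permutations as a permutation of the union. -/
def emb (e : α ⊕ β ≃ γ) : Perm α × Perm β →* Perm γ :=
  e.permCongrHom.toMonoidHom.comp (Perm.sumCongrHom α β)

theorem emb_apply (e : α ⊕ β ≃ γ) (p : Perm α × Perm β) (x : α ⊕ β) :
    emb e p (e x) = e (Sum.map p.1 p.2 x) := by
  simp [emb, Equiv.permCongrHom]

theorem emb_injective (e : α ⊕ β ≃ γ) : Function.Injective (emb e) := fun _ _ h =>
  Perm.sumCongrHom_injective (e.permCongrHom.injective h)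

theorem emb_swap (e : α ⊕ β ≃ γ) (p : Perm α × Perm β) :
    emb ((Equiv.sumComm β α).trans e) (p.2, p.1) = emb e p := by
  ext y
  obtain ⟨x, rfl⟩ := e.surjective y
  rw [emb_apply]
  obtain ⟨z, rfl⟩ := (Equiv.sumComm β α).surjective x
  have h := emb_apply ((Equiv.sumComm β α).trans e) (p.2, p.1) z
  rw [Equiv.trans_apply, Equiv.trans_apply] at h
  rw [h]
  cases z <;> rfl

theorem range_swap (e : α ⊕ β ≃ γ) : (emb ((Equiv.sumComm β α).trans e)).range = (emb e).range := by
  ext y
  constructor
  · rintro ⟨⟨u, v⟩, rfl⟩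
    exact ⟨(v, u), (emb_swap e (v, u)).symm⟩
  · rintro ⟨p, rfl⟩
    exact ⟨(p.2, p.1), emb_swap e p⟩

theorem sign_emb [Fintype α] [Fintype β] [Fintype γ] [DecidableEq α] [DecidableEq β] [DecidableEq γ]
    (e : α ⊕ β ≃ γ) (p : Perm α × Perm β) : Perm.sign (emb e p) = Perm.sign p.1 * Perm.sign p.2 := by
  show Perm.sign (e.permCongr (Equiv.sumCongr p.1 p.2)) = _
  rw [Perm.sign_permCongr, Perm.sign_sumCongr]

end Emb

/-- A group with an invariant set lies in a product of two symmetric groups. -/
theorem exists_emb {n : ℕ} (N : Subgroup (Perm (Fin n))) (S : Set (Fin n)) (hS : ∀ g ∈ N, ∀ x ∈ S, g x ∈ S) :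
    ∃ (a b : ℕ) (e : Fin a ⊕ Fin b ≃ Fin n), a = S.ncard ∧ a + b = n ∧ N ≤ (emb e).range := by
  classical
  let e0 : S ⊕ (Sᶜ : Set (Fin n)) ≃ Fin n := Equiv.Set.sumCompl S
  let e : Fin (Nat.card S) ⊕ Fin (Nat.card (Sᶜ : Set (Fin n))) ≃ Fin n :=
    (Equiv.sumCongr (Finite.equivFin S).symm (Finite.equivFin (Sᶜ : Set (Fin n))).symm).trans e0
  refine ⟨_, _, e, Nat.card_coe_set_eq S, ?_, ?_⟩
  · have := Nat.card_congr e
    simpa [Nat.card_sum] using this
  intro g hg
  have hrange : ∀ x, x ∈ Set.range (Sum.inl : _ → Fin (Nat.card S) ⊕ Fin (Nat.card (Sᶜ : Set (Fin n)))) ↔ e x ∈ S := by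
    intro x
    rcases x with x | x
    · simp only [Set.mem_range, Sum.inl.injEq, exists_eq, true_iff]
      exact ((Finite.equivFin S).symm x).2
    · simp only [Set.mem_range, reduceCtorEq, exists_false, false_iff]
      exact ((Finite.equivFin (Sᶜ : Set (Fin n))).symm x).2
  have hmem : e.symm.permCongr g ∈ (Perm.sumCongrHom _ _).range := by
    apply Perm.mem_sumCongrHom_range_of_perm_mapsTo_inl
    intro x hx
    rw [hrange] at hx ⊢
    rw [Equiv.permCongr_apply, Equiv.symm_symm, Equiv.apply_symm_apply]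
    exact hS g hg _ hx
  obtain ⟨p, hp⟩ := hmem
  refine ⟨p, ?_⟩
  show e.permCongr (Perm.sumCongrHom _ _ p) = g
  rw [hp]
  refine Equiv.ext fun x => ?_
  rw [Equiv.permCongr_apply, Equiv.permCongr_apply, Equiv.symm_symm, Equiv.apply_symm_apply, Equiv.apply_symm_apply]

/-- The two projections. -/
theorem exists_factors {a b n : ℕ} (e : Fin a ⊕ Fin b ≃ Fin n) (N : Subgroup (Perm (Fin n)))
    (hN : Group.IsNilpotent N) (hle : N ≤ (emb e).range) :
    ∃ (A : Subgroup (Perm (Fin a))) (B : Subgroup (Perm (Fin b))),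
      Group.IsNilpotent A ∧ Group.IsNilpotent B ∧ N ≤ (A.prod B).map (emb e) ∧
      Nat.card ((A.prod B).map (emb e)) = Nat.card A * Nat.card B ∧
      (∀ u ∈ A, ∃ v ∈ B, emb e (u, v) ∈ N) ∧ (∀ v ∈ B, ∃ u ∈ A, emb e (u, v) ∈ N) := by
  set L := N.comap (emb e) with hL
  have hmap : L.map (emb e) = N := Subgroup.map_comap_eq_self hle
  haveI : Group.IsNilpotent (L.map (emb e)) := by rw [hmap]; exact hN
  haveI : Group.IsNilpotent L :=
    Group.nilpotent_of_mulEquiv (L.equivMapOfInjective _ (emb_injective e)).symm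
  refine ⟨L.map (MonoidHom.fst _ _), L.map (MonoidHom.snd _ _),
    Group.nilpotent_of_surjective _ (MonoidHom.subgroupMap_surjective _ L),
    Group.nilpotent_of_surjective _ (MonoidHom.subgroupMap_surjective _ L), ?_, ?_, ?_, ?_⟩
  · conv_lhs => rw [← hmap]
    exact Subgroup.map_mono fun x hx => ⟨⟨x, hx, rfl⟩, ⟨x, hx, rfl⟩⟩
  · rw [← Nat.card_congr (Subgroup.equivMapOfInjective _ _ (emb_injective e)).toEquiv,
      Nat.card_congr (Subgroup.prodEquiv _ _).toEquiv, Nat.card_prod]
  · rintro u ⟨⟨u', v⟩, hx, rfl⟩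
    exact ⟨v, ⟨(u', v), hx, rfl⟩, hx⟩
  · rintro v ⟨⟨u, v'⟩, hx, rfl⟩
    exact ⟨u, ⟨(u, v'), hx, rfl⟩, hx⟩

end Cfsg.Agent.NilPerm
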