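/-
The largest nilpotent subgroups of symmetric groups.
Main results (namespace `Cfsg.Agent.NilPerm`): `card_le_gg`, `extremal_sym`, `map_conj`.
-/
import Cfsg.Agent.Lib.NilPerm.Basic

set_option autoImplicit false
set_option linter.unusedSectionVars false

namespace Cfsg.Agent.NilPerm

open Equiv

variable {n : ℕ}

/-- An invariant set of three points. -/
def HasThree (N : Subgroup (Perm (Fin n))) : Prop :=
  ∃ S : Set (Fin n), S.ncard = 3 ∧ ∀ g ∈ N, ∀ x ∈ S, g x ∈ S

theorem ee_eq (n : ℕ) : ee n = (Nat.card (Perm (Fin n))).factorization 2 := by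
  rw [Nat.card_perm, Nat.card_fin, ee, Nat.factorization_def _ Nat.prime_two]

theorem hasThree_left {a b : ℕ} {e : Fin a ⊕ Fin b ≃ Fin n} {N : Subgroup (Perm (Fin n))}
    {A : Subgroup (Perm (Fin a))} {B : Subgroup (Perm (Fin b))} (h : N ≤ (A.prod B).map (emb e))
    (hA : HasThree A) : HasThree N := by
  obtain ⟨S, h3, hS⟩ := hA
  refine ⟨(fun i => e (Sum.inl i)) '' S, ?_, ?_⟩
  · rw [Set.ncard_image_of_injective S (show Function.Injective fun i => e (Sum.inl i) from
      e.injective.comp Sum.inl_injective), h3]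
  · rintro g hg _ ⟨i, hi, rfl⟩
    obtain ⟨p, hp, rfl⟩ := h hg
    exact ⟨p.1 i, hS _ hp.1 _ hi, (emb_apply e p (Sum.inl i)).symm⟩

theorem map_swap {a b : ℕ} (e : Fin a ⊕ Fin b ≃ Fin n) (A : Subgroup (Perm (Fin a))) (B : Subgroup (Perm (Fin b))) :
    (B.prod A).map (emb ((Equiv.sumComm _ _).trans e)) = (A.prod B).map (emb e) := by
  ext y
  constructor
  · rintro ⟨⟨v, u⟩, h, rfl⟩
    exact ⟨(u, v), ⟨h.2, h.1⟩, (emb_swap e (u, v)).symm⟩
  · rintro ⟨p, h, rfl⟩
    exact ⟨(p.2, p.1), ⟨h.2, h.1⟩, emb_swap e p⟩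

theorem hasThree_right {a b : ℕ} {e : Fin a ⊕ Fin b ≃ Fin n} {N : Subgroup (Perm (Fin n))}
    {A : Subgroup (Perm (Fin a))} {B : Subgroup (Perm (Fin b))} (h : N ≤ (A.prod B).map (emb e))
    (hB : HasThree B) : HasThree N := by
  rw [← map_swap] at h
  exact hasThree_left h hB

/-- A group which is not transitive has an invariant set which is neither empty nor everything. -/
theorem exists_invariant {N : Subgroup (Perm (Fin n))} (htr : ¬ ∀ x y : Fin n, ∃ g ∈ N, g x = y) :
    ∃ S : Set (Fin n), 0 < S.ncard ∧ S.ncard < n ∧ ∀ g ∈ N, ∀ x ∈ S, g x ∈ S := by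
  push_neg at htr
  obtain ⟨x, y, hxy⟩ := htr
  refine ⟨{z | ∃ g ∈ N, g x = z}, ?_, ?_, ?_⟩
  · exact (Set.ncard_pos).2 ⟨x, 1, one_mem _, rfl⟩
  · have h : ({z | ∃ g ∈ N, g x = z} : Set (Fin n)) ⊂ Set.univ := by
      refine Set.ssubset_univ_iff.2 fun e => ?_
      obtain ⟨g, hg, hgy⟩ := (Set.eq_univ_iff_forall.1 e) y
      exact hxy g hg hgy
    simpa using Set.ncard_lt_ncard h
  · rintro g hg _ ⟨k, hk, rfl⟩
    exact ⟨g * k, mul_mem hg hk, rfl⟩

theorem not_two_pow {n : ℕ} (h : n % 4 = 3) : ∀ a, n ≠ 2 ^ a := by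
  rintro a rfl
  rcases a with _ | _ | a <;> simp [pow_succ] at h
  omega

/-- The bound, and the invariant set of three points in the extremal case. -/
theorem card_le_gg : ∀ (n : ℕ) (N : Subgroup (Perm (Fin n))), Group.IsNilpotent N →
    Nat.card N ≤ gg n ∧ (n % 4 = 3 → Nat.card N = gg n → HasThree N) := by
  intro n
  induction n using Nat.strong_induction_on with
  | _ n ih =>
    intro N hN
    rcases Nat.eq_zero_or_pos n with rfl | hn
    · refine ⟨?_, fun h => by omega⟩
      rw [gg_zero]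
      exact Finite.card_le_one_iff_subsingleton.2 inferInstance
    haveI : Nonempty (Fin n) := ⟨⟨0, hn⟩⟩
    by_cases htr : ∀ x y : Fin n, ∃ g ∈ N, g x = y
    · have h := card_le_ff N hN htr
      rw [Nat.card_fin] at h
      refine ⟨h.trans (ff_le n), fun h4 heq => ?_⟩
      by_cases h3 : n = 3
      · subst h3
        exact ⟨Set.univ, by simp, fun g _ x _ => trivial⟩
      · have := (two_ff_le n (not_two_pow h4) (by omega) h3 (by omega) (by omega)).2 h4
        omega
    · obtain ⟨S, hS0, hSn, hS⟩ := exists_invariant htr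
      obtain ⟨a, b, e, ha, hab, hle⟩ := exists_emb N S hS
      obtain ⟨A, B, hA, hB, hNle, hcard, -, -⟩ := exists_factors e N hN hle
      obtain ⟨hA1, hA2⟩ := ih a (by omega) A hA
      obtain ⟨hB1, hB2⟩ := ih b (by omega) B hB
      have hN1 : Nat.card N ≤ Nat.card A * Nat.card B := hcard ▸ Subgroup.card_le_of_le hNle
      have h2 := gg_add a b
      rw [hab] at h2
      refine ⟨hN1.trans ((Nat.mul_le_mul hA1 hB1).trans h2), fun h4 heq => ?_⟩
      by_cases ha3 : a % 4 = 3
      · apply hasThree_left hNle (hA2 ha3 ?_)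
        by_contra hne
        have : Nat.card A * Nat.card B < gg a * gg b :=
          Nat.mul_lt_mul_of_lt_of_le (lt_of_le_of_ne hA1 hne) hB1 (gg_pos b)
        omega
      by_cases hb3 : b % 4 = 3
      · apply hasThree_right hNle (hB2 hb3 ?_)
        by_contra hne
        have : Nat.card A * Nat.card B < gg a * gg b :=
          Nat.mul_lt_mul_of_le_of_lt hA1 (lt_of_le_of_ne hB1 hne) (gg_pos a)
        omega
      have := gg_add_lt (a := a) (b := b) (by omega) ha3 hb3
      rw [hab] at this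
      have := Nat.mul_le_mul hA1 hB1
      omega

/-- The groups attaining the bound. -/
theorem extremal_sym (hn : n % 4 = 3) (N : Subgroup (Perm (Fin n))) (hN : Group.IsNilpotent N)
    (heq : Nat.card N = gg n) : ∃ (e : Fin 3 ⊕ Fin (n - 3) ≃ Fin n) (Q : Sylow 2 (Perm (Fin (n - 3)))),
      N = ((alternatingGroup (Fin 3)).prod (Q : Subgroup (Perm (Fin (n - 3))))).map (emb e) := by
  obtain ⟨S, hS3, hS⟩ := (card_le_gg n N hN).2 hn heq
  obtain ⟨a, b, e, ha, hab, hle⟩ := exists_emb N S hS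
  obtain rfl : a = 3 := ha.trans hS3
  obtain rfl : b = n - 3 := by omega
  obtain ⟨A, B, hA, hB, hNle, hcard, -, -⟩ := exists_factors e N hN hle
  have hA1 := (card_le_gg 3 A hA).1
  have hB1 := (card_le_gg (n - 3) B hB).1
  rw [gg_three] at hA1
  have hgb : gg (n - 3) = 2 ^ ee (n - 3) := by rw [gg, if_neg (by omega)]
  have hgn : gg n = 3 * 2 ^ ee (n - 3) := by rw [gg, if_pos hn]
  rw [hgb] at hB1
  have hN1 : Nat.card N ≤ Nat.card A * Nat.card B := hcard ▸ Subgroup.card_le_of_le hNle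
  have hAc : Nat.card A = 3 := by
    by_contra hne
    have : Nat.card A * Nat.card B < 3 * 2 ^ ee (n - 3) :=
      Nat.mul_lt_mul_of_lt_of_le (lt_of_le_of_ne hA1 hne) hB1 (Nat.two_pow_pos _)
    omega
  have hBc : Nat.card B = 2 ^ ee (n - 3) := by
    rw [hAc] at hN1
    omega
  have hAalt : A = alternatingGroup (Fin 3) := by
    apply Perm.eq_alternatingGroup_of_index_eq_two
    have := A.card_mul_index
    rw [hAc, Nat.card_perm, Nat.card_fin] at this
    simp [Nat.factorial] at this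
    omega
  have hQ : Nat.card B = 2 ^ (Nat.card (Perm (Fin (n - 3)))).factorization 2 := by rw [hBc, ee_eq]
  refine ⟨e, Sylow.ofCard B hQ, ?_⟩
  rw [Sylow.coe_ofCard, ← hAalt]
  exact Subgroup.eq_of_le_of_card_ge hNle (by rw [hcard, heq, hAc, hBc, hgn])

/-- Change of the identification and of the factors. -/
theorem map_conj {a b : ℕ} (e e0 : Fin a ⊕ Fin b ≃ Fin n) (A : Subgroup (Perm (Fin a))) (P Q : Subgroup (Perm (Fin b)))
    (τ : Perm (Fin a)) (σ : Perm (Fin b)) (hτ : A.map (MulAut.conj τ).toMonoidHom = A)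
    (hσ : P.map (MulAut.conj σ).toMonoidHom = Q) :
    (A.prod Q).map (emb e) = ((A.prod P).map (emb e0)).map
      (MulAut.conj (e0.symm.trans e * emb e0 (τ, σ))).toMonoidHom := by
  have hconj : ∀ p, e0.symm.trans e * emb e0 p * (e0.symm.trans e)⁻¹ = emb e p := by
    intro p
    ext y
    obtain ⟨x, rfl⟩ := e.surjective y
    rw [emb_apply]
    simp [Perm.mul_apply, emb_apply, Perm.inv_def]
  have h1 : A.prod Q = (A.prod P).map (MulAut.conj ((τ, σ) : Perm (Fin a) × Perm (Fin b))).toMonoidHom := by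
    conv_lhs => rw [← hτ, ← hσ]
    ext x
    constructor
    · rintro ⟨⟨u, hu, h1⟩, ⟨v, hv, h2⟩⟩
      exact ⟨(u, v), ⟨hu, hv⟩, Prod.ext h1 h2⟩
    · rintro ⟨⟨u, v⟩, ⟨hu, hv⟩, rfl⟩
      exact ⟨⟨u, hu, rfl⟩, ⟨v, hv, rfl⟩⟩
  rw [h1, Subgroup.map_map, Subgroup.map_map]
  congr 1
  refine MonoidHom.ext fun p => ?_
  simp only [MonoidHom.comp_apply, MulEquiv.coe_toMonoidHom, MulAut.conj_apply]
  rw [map_mul, map_mul, map_inv, ← hconj p, ← hconj (τ, σ)]
  group

theorem map_conj_self {G : Type*} [Group G] (H : Subgroup G) [H.Normal] (g : G) :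
    H.map (MulAut.conj g).toMonoidHom = H := by
  ext x
  constructor
  · rintro ⟨y, hy, rfl⟩
    exact Subgroup.Normal.conj_mem inferInstance y hy g
  · intro hx
    exact ⟨g⁻¹ * x * g, Subgroup.Normal.conj_mem' inferInstance x hx g, by simp [mul_assoc]⟩

/-- The alternating group of degree three is cyclic of order three. -/
theorem alt_three_equiv : Nonempty (alternatingGroup (Fin 3) ≃* Multiplicative (ZMod 3)) := by
  have h : Nat.card (alternatingGroup (Fin 3)) = 3 := by
    rw [nat_card_alternatingGroup, Nat.card_fin]; rfl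
  haveI := Fact.mk Nat.prime_three
  have h' : Nat.card (Multiplicative (ZMod 3)) = 3 := by
    rw [Nat.card_congr Multiplicative.toAdd, Nat.card_zmod]
  exact ⟨mulEquivOfPrimeCardEq h h'⟩

end Cfsg.Agent.NilPerm
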