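/-
The largest nilpotent groups of even permutations.
Main results (namespace `Cfsg.Agent.NilPerm`): `card_le_gA`, `extremal_alt`, `two_mul_card_sylow_alt`.
-/
import Cfsg.Agent.Lib.NilPerm.Sym

set_option autoImplicit false
set_option linter.unusedSectionVars false

namespace Cfsg.Agent.NilPerm

open Equiv

variable {n : ℕ}

theorem two_mul_card_le {G : Type*} [Group G] [Finite G] {N M : Subgroup G} (hle : N ≤ M) {x : G} (hx : x ∈ M)
    (hxN : x ∉ N) : 2 * Nat.card N ≤ Nat.card M := by
  obtain ⟨k, hk⟩ := Subgroup.card_dvd_of_le hle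
  have hne : k ≠ 1 := fun h => hxN (Subgroup.eq_of_le_of_card_ge hle (by rw [hk, h, mul_one]) ▸ hx)
  have hk0 : k ≠ 0 := fun h => by rw [h, mul_zero] at hk; exact Nat.card_pos.ne' hk
  rw [hk, mul_comm]
  exact Nat.mul_le_mul_left _ (by omega)

theorem factorization_alt (h : 2 ≤ n) : (Nat.card (alternatingGroup (Fin n))).factorization 2 + 1 = ee n := by
  haveI : Nontrivial (Fin n) := Fin.nontrivial_iff_two_le.2 h
  have h2 := two_mul_nat_card_alternatingGroup (α := Fin n)
  rw [ee_eq, ← h2, Nat.factorization_mul two_ne_zero Nat.card_pos.ne', Finsupp.add_apply,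
    Nat.Prime.factorization_self Nat.prime_two, add_comm]

theorem two_mul_card_sylow_alt (h : 2 ≤ n) (P : Sylow 2 (alternatingGroup (Fin n))) :
    2 * Nat.card P = 2 ^ ee n := by
  rw [P.card_eq_multiplicity, ← factorization_alt h, pow_succ']

/-- A transitive group of degree a power of two. -/
theorem card_two_pow {N : Subgroup (Perm (Fin n))} (hN : Group.IsNilpotent N) {a : ℕ} (hn : n = 2 ^ a) (ha : 1 ≤ a)
    (htr : ∀ x y : Fin n, ∃ g ∈ N, g x = y) (halt : N ≤ alternatingGroup (Fin n)) : 2 * Nat.card N ≤ gg n := by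
  have hn2 : 2 ≤ n := hn ▸ Nat.le_self_pow (by omega) 2
  haveI : Nonempty (Fin n) := ⟨⟨0, by omega⟩⟩
  haveI : MulAction.IsPretransitive N (Fin n) :=
    ⟨fun x y => by obtain ⟨g, hg, h⟩ := htr x y; exact ⟨⟨g, hg⟩, h⟩⟩
  have hodd : ∀ p, p ≠ 2 → (Nat.card N).factorization p = 0 := by
    intro p hp2
    by_cases hp : p.Prime
    · haveI := Fact.mk hp
      have h := factorization_le (G := N) (X := Fin n) hN p
      have e : n.factorization p = 0 := by
        rw [congrArg Nat.factorization hn, Nat.Prime.factorization_pow Nat.prime_two, Finsupp.single_apply,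
          if_neg (Ne.symm hp2)]
      rw [Nat.card_fin, e,
        pow_zero, Nat.factorial_one, padicValNat_one_right] at h
      omega
    · exact Nat.factorization_eq_zero_of_not_prime _ hp
  have hcard : Nat.card N = 2 ^ (Nat.card N).factorization 2 := by
    refine Nat.eq_of_factorization_eq Nat.card_pos.ne' (by positivity) fun p => ?_
    rw [Nat.Prime.factorization_pow Nat.prime_two, Finsupp.single_apply]
    split_ifs with h
    · rw [← h]
    · exact hodd p (Ne.symm h)
  have hle := (Nat.factorization_le_iff_dvd Nat.card_pos.ne' Nat.card_pos.ne').2 (Subgroup.card_dvd_of_le halt) 2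
  refine le_trans ?_ (two_pow_ee_le n)
  rw [← factorization_alt hn2, hcard, ← pow_succ']
  exact Nat.pow_le_pow_right (by norm_num) (by omega)

theorem card_le_gA_transitive {N : Subgroup (Perm (Fin n))} (hN : Group.IsNilpotent N) (hn : 0 < n)
    (htr : ∀ x y : Fin n, ∃ g ∈ N, g x = y) (halt : N ≤ alternatingGroup (Fin n)) : 2 * Nat.card N ≤ gA n := by
  haveI : Nonempty (Fin n) := ⟨⟨0, hn⟩⟩
  have h := card_le_ff N hN htr
  rw [Nat.card_fin] at h
  by_cases hp : ∃ a, n = 2 ^ a
  · obtain ⟨a, ha⟩ := hp
    rcases Nat.eq_zero_or_pos a with rfl | ha0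
    · rw [pow_zero] at ha
      subst ha
      rw [ff_one] at h
      simp only [gA]
      norm_num
    · exact (card_two_pow hN ha ha0 htr halt).trans (gg_le_gA n)
  push_neg at hp
  by_cases h3 : n = 3
  · subst h3
    have := ff_le 3
    rw [gg_three] at this
    simp only [gA]
    norm_num
    omega
  by_cases h5 : n = 5
  · subst h5
    rcases small_prime_pow (p := 5) (a := 1) (by norm_num) (by norm_num) one_pos (by norm_num) with ⟨-, e⟩ | ⟨e, -⟩
    · rw [pow_one] at e
      simp only [gA]
      norm_num
      omega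
    · norm_num at e
  by_cases h9 : n = 9
  · subst h9
    have e := ff_odd_prime_pow (p := 3) (a := 2) Nat.prime_three le_rfl
    norm_num at e
    simp only [gA]
    norm_num
    omega
  exact le_trans (Nat.mul_le_mul_left 2 h) (two_ff_le n hp (by omega) h3 h5 h9).1

theorem mem_map_emb {a b : ℕ} (e : Fin a ⊕ Fin b ≃ Fin n) {A : Subgroup (Perm (Fin a))}
    {B : Subgroup (Perm (Fin b))} {u : Perm (Fin a)} {v : Perm (Fin b)} (hu : u ∈ A) (hv : v ∈ B) :
    emb e (u, v) ∈ (A.prod B).map (emb e) := ⟨(u, v), ⟨hu, hv⟩, rfl⟩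

/-- The bound, and the invariant set of three points in the extremal case. -/
theorem card_le_gA : ∀ (n : ℕ) (N : Subgroup (Perm (Fin n))), Group.IsNilpotent N →
    N ≤ alternatingGroup (Fin n) →
    2 * Nat.card N ≤ gA n ∧ (n % 4 = 3 → 2 * Nat.card N = gg n → HasThree N) := by
  intro n
  induction n using Nat.strong_induction_on with
  | _ n ih =>
    intro N hN halt
    rcases Nat.eq_zero_or_pos n with rfl | hn
    · refine ⟨?_, fun h => by omega⟩
      have : Nat.card N ≤ 1 := Finite.card_le_one_iff_subsingleton.2 inferInstance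
      simp only [gA]
      norm_num
    haveI : Nonempty (Fin n) := ⟨⟨0, hn⟩⟩
    by_cases htr : ∀ x y : Fin n, ∃ g ∈ N, g x = y
    · refine ⟨card_le_gA_transitive hN hn htr halt, fun h4 heq => ?_⟩
      by_cases h3 : n = 3
      · subst h3
        exact ⟨Set.univ, by simp, fun g _ x _ => trivial⟩
      · have h := card_le_ff N hN htr
        rw [Nat.card_fin] at h
        have := (two_ff_le n (not_two_pow h4) (by omega) h3 (by omega) (by omega)).2 h4
        omega
    · obtain ⟨S, hS0, hSn, hS⟩ := exists_invariant htr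
      obtain ⟨a, b, e, ha, hab, hle⟩ := exists_emb N S hS
      obtain ⟨A, B, hA, hB, hNle, hcard, hAB, hBA⟩ := exists_factors e N hN hle
      obtain ⟨hA1, hA2⟩ := card_le_gg a A hA
      obtain ⟨hB1, hB2⟩ := card_le_gg b B hB
      have h2 := gg_add a b
      rw [hab] at h2
      by_cases hodd : ∃ u ∈ A, Perm.sign u ≠ 1
      · obtain ⟨u, hu, hu1⟩ := hodd
        have hN1 : 2 * Nat.card N ≤ Nat.card A * Nat.card B := hcard ▸ two_mul_card_le hNle
          (mem_map_emb e hu (one_mem B)) fun hmem => hu1 (by
            have := Perm.mem_alternatingGroup.1 (halt hmem)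
            rwa [sign_emb, map_one, mul_one] at this)
        refine ⟨hN1.trans ((Nat.mul_le_mul hA1 hB1).trans (h2.trans (gg_le_gA n))), fun h4 heq => ?_⟩
        by_cases ha3 : a % 4 = 3
        · apply hasThree_left hNle (hA2 ha3 ?_)
          by_contra hne
          have : Nat.card A * Nat.card B < gg a * gg b :=
            Nat.mul_lt_mul_of_lt_of_le (lt_of_le_of_ne hA1 hne) hB1 (gg_pos b)
          omega
        by_cases hb3 : b % 4 = 3
        · apply hasThree_right hNle (hB2 hb3 ?_)
          by_contra hne
          have : Nat.card A * Nat.card B < gg a * gg b :=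
            Nat.mul_lt_mul_of_le_of_lt hA1 (lt_of_le_of_ne hB1 hne) (gg_pos a)
          omega
        have := gg_add_lt (a := a) (b := b) (by omega) ha3 hb3
        rw [hab] at this
        have := Nat.mul_le_mul hA1 hB1
        omega
      push_neg at hodd
      have hBalt : B ≤ alternatingGroup (Fin b) := by
        intro v hv
        obtain ⟨u, hu, hmem⟩ := hBA v hv
        have := Perm.mem_alternatingGroup.1 (halt hmem)
        rw [sign_emb, hodd u hu, one_mul] at this
        exact Perm.mem_alternatingGroup.2 this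
      have hAalt : A ≤ alternatingGroup (Fin a) := fun u hu => Perm.mem_alternatingGroup.2 (hodd u hu)
      have hA' := (ih a (by omega) A hA hAalt).1
      have hB' := (ih b (by omega) B hB hBalt).1
      have hN1 : Nat.card N ≤ Nat.card A * Nat.card B := hcard ▸ Subgroup.card_le_of_le hNle
      have h4N : 4 * Nat.card N ≤ gA a * gA b := by
        calc 4 * Nat.card N ≤ 4 * (Nat.card A * Nat.card B) := Nat.mul_le_mul_left _ hN1
          _ = (2 * Nat.card A) * (2 * Nat.card B) := by ring
          _ ≤ _ := Nat.mul_le_mul hA' hB'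
      refine ⟨?_, fun h4 heq => ?_⟩
      · have := gA_add (a := a) (b := b) (by omega) (by omega)
        rw [hab] at this
        omega
      · by_cases ha3 : a = 3
        · subst ha3
          exact hasThree_left hNle ⟨Set.univ, by simp, fun g _ x _ => trivial⟩
        by_cases hb3 : b = 3
        · subst hb3
          exact hasThree_right hNle ⟨Set.univ, by simp, fun g _ x _ => trivial⟩
        have := gA_add_lt (a := a) (b := b) (by omega) (by omega) (by omega) ha3 hb3
        rw [hab] at this
        omega

/-- The groups of even permutations attaining the bound. -/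
theorem extremal_alt (hn : n % 4 = 3) (h7 : 7 ≤ n) (N : Subgroup (Perm (Fin n))) (hN : Group.IsNilpotent N)
    (halt : N ≤ alternatingGroup (Fin n)) (heq : 2 * Nat.card N = gg n) :
    ∃ (e : Fin 3 ⊕ Fin (n - 3) ≃ Fin n) (Q : Sylow 2 (alternatingGroup (Fin (n - 3)))),
      N = ((alternatingGroup (Fin 3)).prod
        ((Q : Subgroup (alternatingGroup (Fin (n - 3)))).map (alternatingGroup _).subtype)).map (emb e) := by
  obtain ⟨S, hS3, hS⟩ := (card_le_gA n N hN halt).2 hn heq
  obtain ⟨a, b, e, ha, hab, hle⟩ := exists_emb N S hS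
  obtain rfl : a = 3 := ha.trans hS3
  obtain rfl : b = n - 3 := by omega
  obtain ⟨A, B, hA, hB, hNle, hcard, hAB, hBA⟩ := exists_factors e N hN hle
  have hA1 := (card_le_gg 3 A hA).1
  have hB1 := (card_le_gg (n - 3) B hB).1
  rw [gg_three] at hA1
  have hgb : gg (n - 3) = 2 ^ ee (n - 3) := by rw [gg, if_neg (by omega)]
  have hgn : gg n = 3 * 2 ^ ee (n - 3) := by rw [gg, if_pos hn]
  rw [hgb] at hB1
  have hpos := Nat.two_pow_pos (ee (n - 3))
  have hAc : Nat.card A = 3 := by
    by_contra hne
    rcases (show Nat.card A = 1 ∨ Nat.card A = 2 by have := Nat.card_pos (α := A); omega) with h1 | h1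
    · have hN1 : Nat.card N ≤ Nat.card A * Nat.card B := hcard ▸ Subgroup.card_le_of_le hNle
      rw [h1, one_mul] at hN1
      omega
    · obtain ⟨u, hu, hu1⟩ : ∃ u ∈ A, Perm.sign u ≠ 1 := by
        by_contra hc
        push_neg at hc
        have := Subgroup.card_dvd_of_le (show A ≤ alternatingGroup (Fin 3) from
          fun u hu => Perm.mem_alternatingGroup.2 (hc u hu))
        rw [h1, nat_card_alternatingGroup, Nat.card_fin] at this
        norm_num [Nat.factorial] at this
      have hN1 : 2 * Nat.card N ≤ Nat.card A * Nat.card B := hcard ▸ two_mul_card_le hNle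
          (mem_map_emb e hu (one_mem B)) fun hmem => hu1 (by
            have := Perm.mem_alternatingGroup.1 (halt hmem)
            rwa [sign_emb, map_one, mul_one] at this)
      rw [h1] at hN1
      omega
  have hAalt : A = alternatingGroup (Fin 3) := by
    apply Perm.eq_alternatingGroup_of_index_eq_two
    have := A.card_mul_index
    rw [hAc, Nat.card_perm, Nat.card_fin] at this
    simp [Nat.factorial] at this
    omega
  subst hAalt
  have hBalt : B ≤ alternatingGroup (Fin (n - 3)) := by
    intro v hv
    obtain ⟨u, hu, hmem⟩ := hBA v hv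
    have := Perm.mem_alternatingGroup.1 (halt hmem)
    rw [sign_emb, Perm.mem_alternatingGroup.1 hu, one_mul] at this
    exact Perm.mem_alternatingGroup.2 this
  have hB2 := (card_le_gA (n - 3) B hB hBalt).1
  rw [gA_of_not_exc (by omega), hgb] at hB2
  have hN1 : Nat.card N ≤ 3 * Nat.card B := by
    calc Nat.card N ≤ Nat.card (alternatingGroup (Fin 3)) * Nat.card B := hcard ▸ Subgroup.card_le_of_le hNle
      _ = 3 * Nat.card B := by rw [hAc]
  have hBc : 2 * Nat.card B = 2 ^ ee (n - 3) := by omega
  set B' := B.comap (alternatingGroup (Fin (n - 3))).subtype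
  have hB'map : B'.map (alternatingGroup (Fin (n - 3))).subtype = B :=
    Subgroup.map_comap_eq_self (by rwa [Subgroup.range_subtype])
  have hB'c : Nat.card B' = 2 ^ (Nat.card (alternatingGroup (Fin (n - 3)))).factorization 2 := by
    rw [← factorization_alt (show 2 ≤ n - 3 by omega), pow_succ', ← hB'map] at hBc
    rw [Subgroup.card_map_of_injective (Subgroup.subtype_injective _)] at hBc
    omega
  refine ⟨e, Sylow.ofCard B' hB'c, ?_⟩
  rw [Sylow.coe_ofCard, hB'map]
  exact Subgroup.eq_of_le_of_card_ge hNle (by rw [hcard, hAc]; omega)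

end Cfsg.Agent.NilPerm
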